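import Mathlib
import Cfsg.Agent.Lib.Helper51.TIH.Defs

/-!
# TIH (S4118) package [EXT]

`O` normal solvable, `H` solvable, `commutator G ≤ O ⊔ H` imply `G` solvable.
-/

set_option autoImplicit false

namespace Cfsg.Agent.Lib.Helper88.TIH

open Cfsg.Agent.Lib.Helper51.TIH

universe u

theorem pkgExt : PkgExt.{u} := by
  intro G _ _ H O hO hOs hHs hc
  have := hO
  have hH's : Group.IsSolvable (H.map (QuotientGroup.mk' O)) :=
    Group.isSolvable_of_surjective ((QuotientGroup.mk' O).subgroupMap_surjective H)
  have hcq : commutator (G ⧸ O) ≤ H.map (QuotientGroup.mk' O) := by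
    have h1 : commutator (G ⧸ O) = (commutator G).map (QuotientGroup.mk' O) := by
      rw [commutator_def, commutator_def, Subgroup.map_commutator, ← MonoidHom.range_eq_map,
        MonoidHom.range_eq_top.mpr (QuotientGroup.mk'_surjective O)]
    rw [h1]
    calc (commutator G).map (QuotientGroup.mk' O)
        ≤ (O ⊔ H).map (QuotientGroup.mk' O) := Subgroup.map_mono hc
      _ = O.map (QuotientGroup.mk' O) ⊔ H.map (QuotientGroup.mk' O) := Subgroup.map_sup _ _ _
      _ = H.map (QuotientGroup.mk' O) := by
        rw [QuotientGroup.map_mk'_self, bot_sup_eq]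
  have hQs : Group.IsSolvable (G ⧸ O) := by
    refine Group.isSolvable_of_ker_le_range (H.map (QuotientGroup.mk' O)).subtype
      (Abelianization.of : (G ⧸ O) →* Abelianization (G ⧸ O)) ?_
    rw [Abelianization.ker_of, Subgroup.range_subtype]
    exact hcq
  refine Group.isSolvable_of_ker_le_range O.subtype (QuotientGroup.mk' O) ?_
  rw [QuotientGroup.ker_mk', Subgroup.range_subtype]

end Cfsg.Agent.Lib.Helper88.TIH
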