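import Mathlib
import Cfsg.Agent.Lib.Helper51.TIH.Defs

/-!
# TIH (S4118) package [SEC-B]

A fixed-point-free section `X/Y` of `G` normalized by `H` gives a fixed-point-free action of `H`
on the nontrivial finite group `↥X ⧸ Y.subgroupOf X`.
-/

set_option autoImplicit false

namespace Cfsg.Agent.Lib.Helper88.TIH

open Cfsg.Agent.Lib.Helper51.TIH

universe u

/-- conjugation by an element normalizing `X`, as an automorphism of `↥X`. -/
def conjOn {G : Type u} [Group G] (X : Subgroup G) (h : G)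
    (hh : h ∈ Subgroup.normalizer (X : Set G)) : ↥X ≃* ↥X where
  toFun x := ⟨h * x * h⁻¹, (Subgroup.mem_normalizer_iff.mp hh x).mp x.2⟩
  invFun x := ⟨h⁻¹ * x * h, (Subgroup.mem_normalizer_iff''.mp hh x).mp x.2⟩
  left_inv x := by ext; simp [mul_assoc]
  right_inv x := by ext; simp [mul_assoc]
  map_mul' x y := by ext; simp [mul_assoc]

theorem conjOn_coe {G : Type u} [Group G] (X : Subgroup G) (h : G)
    (hh : h ∈ Subgroup.normalizer (X : Set G)) (x : ↥X) :
    ((conjOn X h hh x : ↥X) : G) = h * x * h⁻¹ := rfl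

theorem conjOn_symm_coe {G : Type u} [Group G] (X : Subgroup G) (h : G)
    (hh : h ∈ Subgroup.normalizer (X : Set G)) (x : ↥X) :
    (((conjOn X h hh).symm x : ↥X) : G) = h⁻¹ * x * h := rfl

theorem conjOn_map {G : Type u} [Group G] (X Y : Subgroup G) (h : G)
    (hh : h ∈ Subgroup.normalizer (X : Set G)) (hY : h ∈ Subgroup.normalizer (Y : Set G)) :
    (Y.subgroupOf X).map (conjOn X h hh : ↥X →* ↥X) = Y.subgroupOf X := by
  ext x
  have h1 : x ∈ (Y.subgroupOf X).map (conjOn X h hh).toMonoidHom ↔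
      (conjOn X h hh).symm x ∈ Y.subgroupOf X := Subgroup.mem_map_equiv
  refine h1.trans ?_
  rw [Subgroup.mem_subgroupOf, Subgroup.mem_subgroupOf, conjOn_symm_coe]
  exact (Subgroup.mem_normalizer_iff''.mp hY (x : G)).symm

theorem pkgSecB : PkgSecB.{u} := by
  intro G _ _ H hsec
  obtain ⟨X, Y, hYX, hHX, hHY, hXY, hne, hfpf⟩ := hsec
  have hYn : (Y.subgroupOf X).Normal := (Subgroup.normal_subgroupOf_iff_le_normalizer hYX).mpr hXY
  have := hYn
  let ρ : H →* MulAut (↥X ⧸ Y.subgroupOf X) :=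
    MonoidHom.mk'
      (fun h => QuotientGroup.congr (Y.subgroupOf X) (Y.subgroupOf X) (conjOn X h (hHX h.2))
        (conjOn_map X Y h (hHX h.2) (hHY h.2)))
      (by
        intro a b
        apply MulEquiv.ext
        intro k
        induction k using QuotientGroup.induction_on with
        | H x =>
          rw [MulAut.mul_apply, QuotientGroup.congr_mk, QuotientGroup.congr_mk,
            QuotientGroup.congr_mk]
          congr 1
          ext
          simp [conjOn_coe, mul_assoc])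
  have hρ : ∀ (h : H) (x : ↥X), ρ h (QuotientGroup.mk x) =
      QuotientGroup.mk (conjOn X h (hHX h.2) x) := fun h x =>
    QuotientGroup.congr_mk _ _ _ (conjOn_map X Y h (hHX h.2) (hHY h.2)) x
  refine ⟨↥X ⧸ Y.subgroupOf X, inferInstance, inferInstance, ρ, ?_, ?_⟩
  · -- nontrivial
    have hex : ∃ x ∈ X, x ∉ Y := by
      by_contra! hcon
      exact hne (le_antisymm hYX hcon)
    obtain ⟨x, hxX, hxY⟩ := hex
    refine ⟨⟨QuotientGroup.mk (⟨x, hxX⟩ : ↥X), 1, ?_⟩⟩
    intro h1
    rw [QuotientGroup.eq_one_iff, Subgroup.mem_subgroupOf] at h1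
    exact hxY h1
  · intro h hh1 k hk
    induction k using QuotientGroup.induction_on with
    | H x =>
      rw [hρ, QuotientGroup.eq, Subgroup.mem_subgroupOf] at hk
      have hk2 : (h : G) * (x : G)⁻¹ * (h : G)⁻¹ * ((x : G)⁻¹)⁻¹ ∈ Y := by
        have : (((conjOn X h (hHX h.2) x)⁻¹ * x : ↥X) : G)
            = (h : G) * (x : G)⁻¹ * (h : G)⁻¹ * ((x : G)⁻¹)⁻¹ := by
          simp [conjOn_coe, mul_assoc]
        rw [← this]; exact hk
      have hh1' : (h : G) ≠ 1 := fun h0 => hh1 (Subtype.ext h0)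
      have hxY : (x : G)⁻¹ ∈ Y := hfpf h h.2 hh1' _ (X.inv_mem x.2) hk2
      rw [QuotientGroup.eq_one_iff, Subgroup.mem_subgroupOf]
      simpa using Y.inv_mem hxY

end Cfsg.Agent.Lib.Helper88.TIH
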